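import Cfsg.Agent.Lib.PSLTwoEleven.Calc
import Cfsg.Agent.Lib.PSLTwoClasses.Basic
import Cfsg.Agent.Lib.PSL2Sub.Existence
import Cfsg.Agent.Lib.Linear.Simple

/-! Subgroups of the projective special linear group over eleven elements isomorphic to A5. -/

set_option autoImplicit false

namespace CfsgLib.PSLTwoEleven

open Matrix CfsgLib.SL2Trace
open scoped Pointwise

local instance fact_prime_eleven : Fact (Nat.Prime 11) := ⟨by norm_num⟩

local notation "S11" => Matrix.SpecialLinearGroup (Fin 2) (ZMod 11)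
local notation "G11" => Matrix.ProjectiveSpecialLinearGroup (Fin 2) (ZMod 11)

/-- the four entries -/
def toQ (A : S11) : Qd :=
  (((A : Matrix (Fin 2) (Fin 2) (ZMod 11)) 0 0).val, ((A : Matrix (Fin 2) (Fin 2) (ZMod 11)) 0 1).val,
    ((A : Matrix (Fin 2) (Fin 2) (ZMod 11)) 1 0).val, ((A : Matrix (Fin 2) (Fin 2) (ZMod 11)) 1 1).val)

theorem toQ_mul (A B : S11) : toQ (A * B) = qmul (toQ A) (toQ B) := by
  simp [toQ, qmul, Matrix.mul_apply, Fin.sum_univ_two, ZMod.val_add, ZMod.val_mul, Nat.add_mod]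

theorem toQ_one : toQ (1 : S11) = (1, 0, 0, 1) := by
  simp [toQ]; rfl

theorem val_neg_eq (a : ZMod 11) : (-a).val = (11 - a.val) % 11 := by
  revert a; decide

theorem toQ_neg (A : S11) : toQ (-A) = qneg (toQ A) := by
  simp [toQ, qneg, val_neg_eq]

theorem toQ_inv (A : S11) : toQ A⁻¹ = qinv (toQ A) := by
  simp [toQ, qinv, SpecialLinearGroup.coe_inv, adjugate_fin_two, val_neg_eq, Nat.mod_eq_of_lt (ZMod.val_lt _)]

theorem toQ_pow (A : S11) : ∀ n, toQ (A ^ n) = qpow (toQ A) n
  | 0 => by rw [pow_zero, toQ_one]; rfl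
  | n + 1 => by rw [pow_succ, toQ_mul, toQ_pow A n]; rfl

theorem toQ_injective : Function.Injective toQ := by
  intro A B h
  simp only [toQ, Prod.mk.injEq] at h
  obtain ⟨h1, h2, h3, h4⟩ := h
  apply Subtype.ext
  ext i j
  fin_cases i <;> fin_cases j
  exacts [ZMod.val_injective _ h1, ZMod.val_injective _ h2, ZMod.val_injective _ h3, ZMod.val_injective _ h4]

theorem qbeq_iff : ∀ X Y : Qd, qbeq X Y = true ↔ X = Y := by
  rintro ⟨a, b, c, d⟩ ⟨e, f, g, h⟩
  simp [qbeq, Bool.and_eq_true, Nat.beq_eq, and_assoc]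

theorem qsame_iff (A B : S11) : qsame (toQ A) (toQ B) = true ↔ toPSL A = toPSL B := by
  rw [qsame, Bool.or_eq_true, qbeq_iff, qbeq_iff, ← toQ_neg, toQ_injective.eq_iff, toQ_injective.eq_iff,
    toPSL, toPSL, QuotientGroup.eq]
  constructor
  · rintro (rfl | rfl)
    · rw [inv_mul_cancel]; exact one_mem _
    · rw [show A⁻¹ * -A = -1 by rw [mul_neg, inv_mul_cancel]]
      exact PSLTwoClasses.neg_mem_center
  · intro h
    rcases PSLTwoClasses.center_cases h with e | e
    · exact Or.inl (inv_mul_eq_one.1 e)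
    · right
      rw [inv_mul_eq_iff_eq_mul, mul_neg, mul_one] at e
      exact e.symm

theorem toPSL_neg (A : S11) : toPSL (-A) = toPSL A := by
  refine (qsame_iff _ _).1 ?_
  rw [qsame, Bool.or_eq_true, qbeq_iff, qbeq_iff, ← toQ_neg, neg_neg]
  exact Or.inr rfl

/-- the elements named by a list -/
def setOf' (l : List Qd) : Set G11 := {g | ∃ A : S11, toPSL A = g ∧ toQ A ∈ l}

theorem mem_of_qmem {l : List Qd} (A : S11) (h : qmem (toQ A) l = true) : toPSL A ∈ setOf' l := by
  simp only [qmem, List.any_eq_true] at h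
  obtain ⟨y, hy, he⟩ := h
  rw [qsame, Bool.or_eq_true, qbeq_iff, qbeq_iff] at he
  rcases he with e | e
  · exact ⟨A, rfl, e ▸ hy⟩
  · exact ⟨-A, toPSL_neg A, by rw [toQ_neg, e]; exact hy⟩

theorem qmem_of_mem {l : List Qd} (A : S11) (h : toPSL A ∈ setOf' l) : qmem (toQ A) l = true := by
  obtain ⟨B, hB, h⟩ := h
  simp only [qmem, List.any_eq_true]
  exact ⟨toQ B, h, (qsame_iff A B).2 hB.symm⟩

/-- the element from four numbers -/
def mkS (a b c d : ℕ) (h : (a * d + 10 * (b * c)) % 11 = 1) : S11 :=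
  ⟨!![(a : ZMod 11), b; c, d], by
    rw [det_fin_two_of]
    have h' := congrArg (fun n : ℕ => (n : ZMod 11)) h
    simp only [ZMod.natCast_mod] at h'
    push_cast at h'
    rw [show (10 : ZMod 11) = -1 by decide] at h'
    linear_combination h'⟩

theorem toQ_mkS {a b c d : ℕ} (h : (a * d + 10 * (b * c)) % 11 = 1) (ha : a < 11) (hb : b < 11)
    (hc : c < 11) (hd : d < 11) : toQ (mkS a b c d h) = (a, b, c, d) := by
  simp [toQ, mkS, ZMod.val_natCast_of_lt, ha, hb, hc, hd]

/-- the element of order three -/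
def xS : S11 := mkS 0 10 1 1 (by norm_num)

/-- first partner -/
def aS : S11 := mkS 0 2 5 3 (by norm_num)

/-- second partner -/
def bS : S11 := mkS 0 4 8 4 (by norm_num)

theorem toQ_xS : toQ xS = x0 := toQ_mkS _ (by norm_num) (by norm_num) (by norm_num) (by norm_num)

theorem toQ_aS : toQ aS = y0 := toQ_mkS _ (by norm_num) (by norm_num) (by norm_num) (by norm_num)

theorem toQ_bS : toQ bS = y1 := toQ_mkS _ (by norm_num) (by norm_num) (by norm_num) (by norm_num)

theorem allQ_apply {f : Qd → Bool} (h : allQ f = true) (A : S11) : f (toQ A) = true := by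
  refine allQ_spec h (ZMod.val_lt _) (ZMod.val_lt _) (ZMod.val_lt _) (ZMod.val_lt _) ?_
  have hd := det_coe A
  have h' : ((((A : Matrix (Fin 2) (Fin 2) (ZMod 11)) 0 0).val * ((A : Matrix (Fin 2) (Fin 2) (ZMod 11)) 1 1).val +
      10 * (((A : Matrix (Fin 2) (Fin 2) (ZMod 11)) 0 1).val * ((A : Matrix (Fin 2) (Fin 2) (ZMod 11)) 1 0).val) : ℕ) :
        ZMod 11) = ((1 : ℕ) : ZMod 11) := by
    push_cast
    simp only [ZMod.natCast_zmod_val]
    rw [show (10 : ZMod 11) = -1 by decide]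
    linear_combination hd
  exact (ZMod.natCast_eq_natCast_iff' _ _ _).1 h'

/-- a subgroup generated by the order three element and a partner -/
def sub (Y : S11) : Subgroup G11 := Subgroup.closure {toPSL xS, toPSL Y}

theorem chkList_props {Y : S11} {l : List Qd} (h : chkList (toQ Y) l = true) :
    ((sub Y : Set G11) ⊆ setOf' l) ∧ toPSL Y ^ 5 = 1 ∧ (toPSL xS * toPSL Y) ^ 2 = 1 := by
  simp only [chkList, Bool.and_eq_true, List.all_eq_true] at h
  obtain ⟨⟨⟨⟨⟨⟨h1, hcl⟩, -⟩, -⟩, h5⟩, h2⟩, -⟩ := h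
  have hrel : ∀ (A : S11) (n : ℕ), qsame (qpow (toQ A) n) (1, 0, 0, 1) = true → toPSL A ^ n = 1 := by
    intro A n hn
    rw [← toQ_pow, ← toQ_one, qsame_iff] at hn
    simpa [toPSL] using hn
  refine ⟨?_, hrel _ _ h5, ?_⟩
  swap
  · rw [← toQ_xS, ← toQ_mul] at h2
    rw [← hrel _ _ h2, toPSL, toPSL, toPSL, QuotientGroup.mk_mul]
  have hmul : ∀ Z : S11, (∀ s ∈ l, qmem (qmul (toQ Z) s) l = true) → ∀ g ∈ setOf' l,
      toPSL Z * g ∈ setOf' l := by
    rintro Z hZ g ⟨A, rfl, hA⟩
    rw [toPSL, toPSL, ← QuotientGroup.mk_mul]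
    exact mem_of_qmem _ (by rw [toQ_mul]; exact hZ _ hA)
  have hone : (1 : G11) ∈ setOf' l := by
    have h := mem_of_qmem (1 : S11) (l := l) (by rw [toQ_one]; exact h1)
    simpa [toPSL] using h
  intro g hg
  suffices ∀ k ∈ setOf' l, g * k ∈ setOf' l by simpa using this 1 hone
  have hg' : g ∈ (Subgroup.closure ({toPSL xS, toPSL Y} : Set G11)).toSubmonoid := hg
  rw [Subgroup.closure_toSubmonoid_of_finite] at hg'
  clear hg
  induction hg' using Submonoid.closure_induction with
  | mem x hx =>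
    rcases hx with rfl | rfl
    · exact hmul xS fun s hs => by rw [toQ_xS]; exact (hcl s hs).1
    · exact hmul Y fun s hs => (hcl s hs).2
  | one => exact fun k hk => by rwa [one_mul]
  | mul x y _ _ hx hy => exact fun k hk => by rw [mul_assoc]; exact hx _ (hy _ hk)

theorem xS_pow : toPSL xS ^ 3 = 1 ∧ toPSL xS ≠ 1 := by
  constructor
  · have : qsame (toQ (xS ^ 3)) (toQ (1 : S11)) = true := by
      rw [toQ_pow, toQ_xS, toQ_one]; decide
    simpa [toPSL] using (qsame_iff _ _).1 this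
  · intro e
    have := (qsame_iff xS 1).2 (e.trans (by simp [toPSL]))
    rw [toQ_xS, toQ_one] at this
    exact absurd this (by decide)

theorem equiv_alt_five {Y : S11} (h5 : toPSL Y ^ 5 = 1) (hxy : (toPSL xS * toPSL Y) ^ 2 = 1) :
    Nonempty (sub Y ≃* alternatingGroup (Fin 5)) := by
  obtain ⟨a, b, ha, hb, hab, hgen⟩ := CfsgLib.Present.ico_pair
  obtain ⟨f, hfa, hfb⟩ := PSL2Sub.exists_hom_of_bound (B := G11) (a := a) (b := b)
    (x := toPSL xS) (y := toPSL Y) hgen (fun Γ u v hu hv htop => by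
      refine (CfsgLib.Present.icosahedral_card_le u v ?_ ?_ ?_ htop).imp id fun h => ?_
      · exact Subtype.ext (by
          rw [Subgroup.coe_pow, hu, Prod.pow_mk, xS_pow.1, orderOf_dvd_iff_pow_eq_one.mp ha.dvd]; rfl)
      · exact Subtype.ext (by
          rw [Subgroup.coe_pow, hv, Prod.pow_mk, h5, orderOf_dvd_iff_pow_eq_one.mp hb.dvd]; rfl)
      · exact Subtype.ext (by
          rw [Subgroup.coe_pow, Subgroup.coe_mul, hu, hv, Prod.mk_mul_mk, Prod.pow_mk, hxy,
            orderOf_dvd_iff_pow_eq_one.mp hab.dvd]; rfl)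
      · exact h.trans (le_of_eq PSL2Sub.card_alt_five.symm))
  have hinj : Function.Injective f := by
    rw [← MonoidHom.ker_eq_bot_iff]
    haveI : IsSimpleGroup (alternatingGroup (Fin 5)) := alternatingGroup.isSimpleGroup_five
    refine (MonoidHom.normal_ker f).eq_bot_or_eq_top.resolve_right fun h => ?_
    exact xS_pow.2 (hfa.symm.trans (f.mem_ker.mp (h ▸ Subgroup.mem_top a)))
  have hr : f.range = sub Y := by
    rw [MonoidHom.range_eq_map, ← hgen, MonoidHom.map_closure, Set.image_pair, hfa, hfb]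
    rfl
  exact ⟨(MulEquiv.subgroupCongr hr.symm).trans (MonoidHom.ofInjective hinj).symm⟩

theorem aS_props : ((sub aS : Set G11) ⊆ setOf' l0) ∧ Nonempty (sub aS ≃* alternatingGroup (Fin 5)) := by
  obtain ⟨h1, h2, h3⟩ := chkList_props (Y := aS) (l := l0) (by rw [toQ_aS]; exact chkList_zero)
  exact ⟨h1, equiv_alt_five h2 h3⟩

theorem bS_props : ((sub bS : Set G11) ⊆ setOf' l1) ∧ Nonempty (sub bS ≃* alternatingGroup (Fin 5)) := by
  obtain ⟨h1, h2, h3⟩ := chkList_props (Y := bS) (l := l1) (by rw [toQ_bS]; exact chkList_one)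
  exact ⟨h1, equiv_alt_five h2 h3⟩

theorem coe_sub_eq {Y : S11} {l : List Qd} (hs : (sub Y : Set G11) ⊆ setOf' l) (hl : l.length = 60)
    (he : Nonempty (sub Y ≃* alternatingGroup (Fin 5))) : (sub Y : Set G11) = setOf' l := by
  classical
  refine Set.eq_of_subset_of_ncard_le hs ?_
  have hc : (sub Y : Set G11).ncard = 60 := by
    rw [← Nat.card_coe_set_eq]
    exact (Nat.card_congr he.some.toEquiv).trans PSL2Sub.card_alt_five
  rw [hc]
  let ψ : Qd → G11 := fun q => if h : ∃ A : S11, toQ A = q then toPSL h.choose else 1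
  have hsub : setOf' l ⊆ ψ '' ↑l.toFinset := by
    rintro g ⟨A, rfl, hA⟩
    have hex : ∃ B : S11, toQ B = toQ A := ⟨A, rfl⟩
    refine ⟨toQ A, by simpa using hA, ?_⟩
    simp only [ψ, dif_pos hex]
    rw [toQ_injective hex.choose_spec]
  refine (Set.ncard_le_ncard hsub (l.toFinset.finite_toSet.image _)).trans
    ((Set.ncard_image_le l.toFinset.finite_toSet).trans ?_)
  rw [Set.ncard_coe_finset]
  exact (List.toFinset_card_le l).trans hl.le

theorem exists_conj_of_alt_five (L : Subgroup G11) (hL : Nonempty (L ≃* alternatingGroup (Fin 5))) :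
    ∃ g : G11, MulAut.conj g • L = sub aS ∨ MulAut.conj g • L = sub bS := by
  obtain ⟨e⟩ := hL
  obtain ⟨a, b, ha, hb, hab, hgen⟩ := CfsgLib.Present.ico_pair
  set x : G11 := ((e.symm a : L) : G11) with hx
  set y : G11 := ((e.symm b : L) : G11) with hy
  have hLgen : L = Subgroup.closure {x, y} := by
    have h1 := congrArg (Subgroup.map ((L.subtype).comp e.symm.toMonoidHom)) hgen
    rw [MonoidHom.map_closure, Set.image_pair, ← MonoidHom.range_eq_map] at h1
    rw [hx, hy]
    refine Eq.trans ?_ h1.symm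
    rw [MonoidHom.range_comp, MonoidHom.range_eq_top.2 e.symm.surjective, ← MonoidHom.range_eq_map, Subgroup.range_subtype]
  have hx3 : orderOf x = 3 := by rw [hx, Subgroup.orderOf_coe, MulEquiv.orderOf_eq, ha]
  have hy5 : orderOf y = 5 := by rw [hy, Subgroup.orderOf_coe, MulEquiv.orderOf_eq, hb]
  have hxy : orderOf (x * y) = 2 := by
    rw [hx, hy, ← Subgroup.coe_mul, ← map_mul, Subgroup.orderOf_coe, MulEquiv.orderOf_eq, hab]
  -- a lift of trace one
  obtain ⟨X0, hX0⟩ := QuotientGroup.mk_surjective x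
  obtain ⟨X, hX, htX⟩ : ∃ X : S11, toPSL X = x ∧ (X : Matrix (Fin 2) (Fin 2) (ZMod 11)).trace = 1 := by
    have h := allQ_apply chkTrace_true X0
    have hne : qsame (toQ X0) (1, 0, 0, 1) ≠ true := by
      rw [← toQ_one, Ne, qsame_iff, toPSL, hX0]
      intro h1
      rw [toPSL, QuotientGroup.mk_one] at h1
      rw [h1, orderOf_one] at hx3
      omega
    have h3 : qsame (qpow (toQ X0) 3) (1, 0, 0, 1) = true := by
      rw [← toQ_pow, ← toQ_one, qsame_iff, toPSL, toPSL, QuotientGroup.mk_pow, hX0,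
        QuotientGroup.mk_one, ← hx3, pow_orderOf_eq_one]
    simp only [Bool.or_eq_true, Bool.not_eq_true', toQ, Nat.beq_eq] at h
    have h' := (h.resolve_left fun e => e.elim (fun e => by rw [toQ] at h3; rw [h3] at e; cases e) (fun e => hne (by rw [toQ]; exact e)))
    have hcast : ∀ k : ℕ, k < 11 →
        (((X0 : Matrix (Fin 2) (Fin 2) (ZMod 11)) 0 0).val + ((X0 : Matrix (Fin 2) (Fin 2) (ZMod 11)) 1 1).val) % 11 = k →
        (X0 : Matrix (Fin 2) (Fin 2) (ZMod 11)).trace = (k : ZMod 11) := by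
      intro k _ hk
      rw [trace_fin_two, ← hk, ZMod.natCast_mod, Nat.cast_add, ZMod.natCast_zmod_val, ZMod.natCast_zmod_val]
    rcases h' with h' | h'
    · exact ⟨X0, hX0, (hcast 1 (by norm_num) h').trans Nat.cast_one⟩
    · refine ⟨-X0, ?_, ?_⟩
      · rw [← hX0]
        exact toPSL_neg X0
      · rw [show ((-X0 : S11) : Matrix (Fin 2) (Fin 2) (ZMod 11)).trace =
          -(X0 : Matrix (Fin 2) (Fin 2) (ZMod 11)).trace from PSLTwoClasses.tr_neg X0,
          hcast 10 (by norm_num) h']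
        decide
  have htx : (xS : Matrix (Fin 2) (Fin 2) (ZMod 11)).trace = 1 := by
    rw [trace_fin_two]; simp [xS, mkS]
  obtain ⟨U, hU⟩ := isConj_of_trace_eq X xS (by rw [htX]; decide) (by rw [htx, htX])
  -- conjugate so that the element of order three is the standard one
  set u : G11 := toPSL U
  have hux : u * x * u⁻¹ = toPSL xS := by
    rw [← hX, hU]; simp [u, toPSL]
  obtain ⟨Y, hY⟩ := QuotientGroup.mk_surjective (u * y * u⁻¹)
  have hp := allQ_apply chkPartner_true Y
  have hY5 : qsame (qpow (toQ Y) 5) (1, 0, 0, 1) = true := by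
    rw [← toQ_pow, ← toQ_one, qsame_iff, toPSL, toPSL, QuotientGroup.mk_pow, hY, QuotientGroup.mk_one,
      conj_pow, ← hy5, pow_orderOf_eq_one, mul_one, mul_inv_cancel]
  have hY2 : qsame (qpow (qmul x0 (toQ Y)) 2) (1, 0, 0, 1) = true := by
    rw [← toQ_xS, ← toQ_mul, ← toQ_pow, ← toQ_one, qsame_iff, toPSL, toPSL, QuotientGroup.mk_pow,
      QuotientGroup.mk_mul, hY, QuotientGroup.mk_one]
    show (toPSL xS * (u * y * u⁻¹)) ^ 2 = 1
    have hsq : (x * y) ^ 2 = 1 := orderOf_dvd_iff_pow_eq_one.1 hxy.dvd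
    rw [← hux, show u * x * u⁻¹ * (u * y * u⁻¹) = u * (x * y) * u⁻¹ by group, conj_pow, hsq,
      mul_one, mul_inv_cancel]
  rw [hY5, hY2] at hp
  simp only [Bool.and_self, Bool.not_true, Bool.false_or, Bool.or_eq_true, List.any_eq_true,
    Bool.and_eq_true] at hp
  obtain ⟨c, hc, hc'⟩ := hp
  have hcd := List.all_eq_true.1 cen_det c hc
  obtain ⟨c1, c2, c3, c4⟩ := c
  simp only [Bool.and_eq_true, Nat.blt_eq, Nat.beq_eq] at hcd
  obtain ⟨⟨⟨⟨d1, d2⟩, d3⟩, d4⟩, dd⟩ := hcd
  set C := mkS c1 c2 c3 c4 dd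
  rw [← toQ_mkS dd d1 d2 d3 d4, ← toQ_xS] at hc'
  simp only [← toQ_inv, ← toQ_mul] at hc'
  replace hc' := hc'.imp (And.imp (mem_of_qmem _) (mem_of_qmem _)) (And.imp (mem_of_qmem _) (mem_of_qmem _))
  set g := toPSL C * u
  have hgx : toPSL (C * xS * C⁻¹) = g * x * g⁻¹ := by
    show QuotientGroup.mk (C * xS * C⁻¹) = _
    rw [QuotientGroup.mk_mul, QuotientGroup.mk_mul, QuotientGroup.mk_inv]
    show toPSL C * toPSL xS * (toPSL C)⁻¹ = _
    rw [← hux]; simp only [g]; group
  have hgy : toPSL (C * Y * C⁻¹) = g * y * g⁻¹ := by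
    show QuotientGroup.mk (C * Y * C⁻¹) = _
    rw [QuotientGroup.mk_mul, QuotientGroup.mk_mul, QuotientGroup.mk_inv, hY]
    show toPSL C * (u * y * u⁻¹) * (toPSL C)⁻¹ = _
    simp only [g]; group
  rw [hgx, hgy] at hc'
  have hconj : ∀ M : Subgroup G11, g * x * g⁻¹ ∈ M → g * y * g⁻¹ ∈ M →
      Nonempty (M ≃* alternatingGroup (Fin 5)) → MulAut.conj g • L = M := by
    intro M h1 h2 ⟨e'⟩
    refine Subgroup.eq_of_le_of_card_ge ?_ (le_of_eq ?_)
    · have hle : L ≤ M.comap (MulAut.conj g).toMonoidHom := by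
        rw [hLgen, Subgroup.closure_le]
        exact Set.insert_subset h1 (Set.singleton_subset_iff.2 h2)
      intro z hz
      rw [Subgroup.mem_pointwise_smul_iff_inv_smul_mem, MulAut.smul_def, MulAut.conj_inv_apply] at hz
      have := hle hz
      simpa [mul_assoc] using this
    · rw [Nat.card_congr e'.toEquiv,
        ← Nat.card_congr (Subgroup.equivSMul (MulAut.conj g) L).toEquiv, Nat.card_congr e.toEquiv]
  have ha' := coe_sub_eq aS_props.1 rfl aS_props.2
  have hb' := coe_sub_eq bS_props.1 rfl bS_props.2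
  refine ⟨g, ?_⟩
  rcases hc' with ⟨h1, h2⟩ | ⟨h1, h2⟩
  · exact Or.inl (hconj _ (ha'.symm.subset h1) (ha'.symm.subset h2) aS_props.2)
  · exact Or.inr (hconj _ (hb'.symm.subset h1) (hb'.symm.subset h2) bS_props.2)

theorem not_conj (g : G11) : MulAut.conj g • sub aS ≠ sub bS := by
  intro h
  obtain ⟨A, rfl⟩ := QuotientGroup.mk_surjective g
  have hm : ∀ Z : S11, toPSL Z ∈ sub aS → qmem (qmul (qmul (toQ A) (toQ Z)) (qinv (toQ A))) l1 = true := by
    intro Z hZ
    rw [← toQ_inv, ← toQ_mul, ← toQ_mul]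
    refine qmem_of_mem _ (bS_props.1 ?_)
    rw [SetLike.mem_coe, ← h, Subgroup.mem_pointwise_smul_iff_inv_smul_mem]
    simpa [toPSL, MulAut.smul_def, mul_assoc] using hZ
  have hp := allQ_apply chkApart_true A
  rw [← toQ_xS, ← toQ_aS, hm xS (Subgroup.subset_closure (by simp)),
    hm aS (Subgroup.subset_closure (by simp))] at hp
  simp at hp

theorem card_G11 : Nat.card G11 = 660 := by
  have h := PSL2Sub.gcd_mul_card_PS (F := ZMod 11)
  rw [ZMod.card, show Nat.gcd 2 (11 - 1) = 2 from rfl, show 11 * (11 ^ 2 - 1) = 1320 from rfl] at h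
  change Nat.card (PSL2Sub.PS (ZMod 11)) = 660
  omega

theorem isSimple_G11 : IsSimpleGroup G11 :=
  CfsgLib.Linear.isSimpleGroup_PSL_fin 2 le_rfl (by intro; rw [Nat.card_zmod]; norm_num)

theorem index_normalizer (H : Subgroup G11) (hH : Nonempty (H ≃* alternatingGroup (Fin 5))) :
    H.index = 11 ∧ (Subgroup.normalizer (H : Set G11)).index = 11 := by
  have hc : Nat.card H = 60 := (Nat.card_congr hH.some.toEquiv).trans PSL2Sub.card_alt_five
  have hi : H.index = 11 := by
    have h := H.card_mul_index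
    rw [hc, card_G11] at h
    omega
  refine ⟨hi, ?_⟩
  have hd : (Subgroup.normalizer (H : Set G11)).index ∣ 11 :=
    (Subgroup.index_dvd_of_le Subgroup.le_normalizer).trans (dvd_of_eq hi)
  refine ((Nat.dvd_prime (by norm_num)).1 hd).resolve_left fun h1 => ?_
  haveI := isSimple_G11
  haveI hn : H.Normal := Subgroup.normalizer_eq_top_iff.1 (Subgroup.index_eq_one.1 h1)
  rcases hn.eq_bot_or_eq_top with e | e
  · rw [e, Subgroup.card_bot] at hc; omega
  · rw [e, Subgroup.index_top] at hi; omega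

theorem smul_eq_self_iff {G : Type*} [Group G] (H : Subgroup G) (k : G) :
    MulAut.conj k • H = H ↔ k ∈ Subgroup.normalizer (H : Set G) := by
  rw [Subgroup.mem_normalizer_iff, SetLike.ext_iff]
  refine ⟨fun h z => ?_, fun h z => ?_⟩
  · have := h (k * z * k⁻¹)
    rw [Subgroup.mem_pointwise_smul_iff_inv_smul_mem, MulAut.smul_def, MulAut.conj_inv_apply] at this
    simpa [mul_assoc] using this
  · rw [Subgroup.mem_pointwise_smul_iff_inv_smul_mem, MulAut.smul_def, MulAut.conj_inv_apply]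
    simpa [mul_assoc] using h (k⁻¹ * z * k)

theorem card_alt_five_subgroups :
    Nat.card {H : Subgroup G11 // Nonempty (H ≃* alternatingGroup (Fin 5))} = 22 := by
  classical
  have horb : ∀ H : Subgroup G11, Nonempty (H ≃* alternatingGroup (Fin 5)) →
      (Set.range fun g : G11 => MulAut.conj g • H).ncard = 11 := by
    intro H hH
    let f : G11 ⧸ Subgroup.normalizer (H : Set G11) → Subgroup G11 :=
      Quotient.lift (fun g => MulAut.conj g • H) (by
        intro a b hab
        have h2 := (smul_eq_self_iff H _).2 (QuotientGroup.leftRel_apply.1 hab)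
        conv_lhs => rw [← h2]
        rw [smul_smul, ← map_mul, mul_inv_cancel_left])
    have hf : Function.Injective f := by
      rintro ⟨a⟩ ⟨b⟩ hab
      refine Quotient.sound (QuotientGroup.leftRel_apply.2 ((smul_eq_self_iff H _).1 ?_))
      change MulAut.conj a • H = MulAut.conj b • H at hab
      rw [map_mul, mul_smul, ← hab, ← mul_smul, ← map_mul, inv_mul_cancel, map_one, one_smul]
    have hr : Set.range f = Set.range fun g : G11 => MulAut.conj g • H := by
      ext K
      exact ⟨fun ⟨q, hq⟩ => by obtain ⟨g, rfl⟩ := QuotientGroup.mk_surjective q; exact ⟨g, hq⟩,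
        fun ⟨g, hg⟩ => ⟨(g : G11 ⧸ _), hg⟩⟩
    rw [← hr, Set.ncard_range_of_injective hf, ← Subgroup.index_eq_card, (index_normalizer H hH).2]
  have hset : {H : Subgroup G11 | Nonempty (H ≃* alternatingGroup (Fin 5))} =
      (Set.range fun g : G11 => MulAut.conj g • sub aS) ∪ (Set.range fun g : G11 => MulAut.conj g • sub bS) := by
    ext L
    constructor
    · intro hL
      obtain ⟨g, hg | hg⟩ := exists_conj_of_alt_five L hL
      · exact Or.inl ⟨g⁻¹, by simp [← hg, smul_smul, ← map_mul]⟩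
      · exact Or.inr ⟨g⁻¹, by simp [← hg, smul_smul, ← map_mul]⟩
    · rintro (⟨g, rfl⟩ | ⟨g, rfl⟩)
      · exact ⟨(Subgroup.equivSMul _ _).symm.trans aS_props.2.some⟩
      · exact ⟨(Subgroup.equivSMul _ _).symm.trans bS_props.2.some⟩
  rw [show {H : Subgroup G11 // Nonempty (H ≃* alternatingGroup (Fin 5))} =
    ↥{H : Subgroup G11 | Nonempty (H ≃* alternatingGroup (Fin 5))} from rfl, Nat.card_coe_set_eq, hset,
    Set.ncard_union_eq ?_ (Set.finite_range _) (Set.finite_range _), horb _ aS_props.2, horb _ bS_props.2]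
  rw [Set.disjoint_left]
  rintro L ⟨g, rfl⟩ ⟨k, hk⟩
  refine not_conj (k⁻¹ * g) ?_
  have hk' : MulAut.conj k • sub bS = MulAut.conj g • sub aS := hk
  rw [map_mul, mul_smul, ← hk', smul_smul, ← map_mul, inv_mul_cancel, map_one, one_smul]

end CfsgLib.PSLTwoEleven
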