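import Mathlib

/-! Finite checks in the projective special linear group of degree two over eleven elements. -/

set_option autoImplicit false

namespace CfsgLib.PSLTwoEleven

/-- four entries modulo eleven -/
abbrev Qd : Type := ℕ × ℕ × ℕ × ℕ

/-- product -/
def qmul : Qd → Qd → Qd
  | (a, b, c, d), (e, f, g, h) =>
    ((a * e + b * g) % 11, (a * f + b * h) % 11, (c * e + d * g) % 11, (c * f + d * h) % 11)

/-- negation -/
def qneg : Qd → Qd
  | (a, b, c, d) => ((11 - a) % 11, (11 - b) % 11, (11 - c) % 11, (11 - d) % 11)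

/-- adjugate -/
def qinv : Qd → Qd
  | (a, b, c, d) => (d % 11, (11 - b) % 11, (11 - c) % 11, a % 11)

/-- equality of quadruples -/
def qbeq : Qd → Qd → Bool
  | (a, b, c, d), (e, f, g, h) => Nat.beq a e && Nat.beq b f && Nat.beq c g && Nat.beq d h

/-- equality up to sign -/
def qsame (x y : Qd) : Bool := qbeq x y || qbeq (qneg x) y

/-- membership up to sign -/
def qmem (x : Qd) (l : List Qd) : Bool := l.any fun y => qsame x y

/-- power -/
def qpow (x : Qd) : ℕ → Qd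
  | 0 => (1, 0, 0, 1)
  | n + 1 => qmul (qpow x n) x

/-- the element of order three -/
def x0 : Qd := (0, 10, 1, 1)

/-- partners of the two subgroups -/
def y0 : Qd := (0, 2, 5, 3)

/-- partners of the two subgroups -/
def y1 : Qd := (0, 4, 8, 4)

/-- the elements of the first subgroup -/
def l0 : List Qd := [(0, 1, 10, 10), (0, 2, 5, 3), (0, 3, 7, 1), (0, 4, 8, 3), (0, 5, 2, 0), (1, 0, 0, 1), (1, 1, 10, 0), (1, 2, 8, 6), (1, 3, 3, 10), (1, 4, 2, 9), (1, 5, 7, 3), (1, 6, 5, 9), (1, 7, 6, 10), (1, 8, 4, 0), (1, 9, 1, 10), (1, 10, 9, 3), (2, 0, 9, 6), (2, 1, 6, 9), (2, 2, 3, 9), (2, 3, 1, 2), (2, 4, 2, 10), (2, 5, 0, 6), (2, 6, 5, 10), (2, 7, 4, 9), (2, 8, 10, 2), (2, 9, 8, 9), (2, 10, 7, 8), (3, 0, 5, 4), (3, 1, 2, 1), (3, 2, 10, 7), (3, 3, 1, 5), (3, 4, 0, 4), (3, 5, 9, 8), (3, 6, 4, 1), (3, 7, 3, 0), (3, 8, 8, 7), (3, 9, 6, 0), (3, 10, 7, 9), (4, 0, 6, 3), (4, 1, 4, 4), (4, 2, 10, 8), (4, 3, 9, 7), (4, 4, 3, 6),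 (4, 5, 1, 7), (4, 6, 2, 6), (4, 7, 0, 3), (4, 8, 8, 8), (4, 9, 5, 6), (4, 10, 7, 4), (5, 0, 9, 9), (5, 1, 7, 6), (5, 2, 8, 10), (5, 3, 6, 6), (5, 4, 3, 7), (5, 5, 0, 9), (5, 6, 2, 7), (5, 7, 1, 6), (5, 8, 10, 3), (5, 9, 5, 7), (5, 10, 4, 6)]

/-- the elements of the second subgroup -/
def l1 : List Qd := [(0, 1, 10, 10), (0, 2, 5, 10), (0, 3, 7, 0), (0, 4, 8, 4), (0, 5, 2, 7), (1, 0, 0, 1), (1, 1, 10, 0), (1, 2, 5, 0), (1, 3, 3, 10), (1, 4, 2, 9), (1, 5, 4, 10), (1, 6, 1, 7), (1, 7, 9, 9), (1, 8, 7, 2), (1, 9, 8, 7), (1, 10, 6, 6), (2, 0, 5, 6), (2, 1, 0, 6), (2, 2, 10, 5), (2, 3, 4, 1), (2, 4, 2, 10), (2, 5, 3, 8), (2, 6, 1, 9), (2, 7, 9, 10), (2, 8, 6, 8), (2, 9, 8, 9), (2, 10, 7, 8), (3, 0, 4, 4), (3, 1, 1, 8), (3, 2, 10, 7), (3, 3, 0, 4), (3, 4, 9, 5), (3, 5, 3, 9), (3, 6, 2, 8), (3, 7, 8, 8), (3, 8, 6, 9), (3, 9, 5, 8), (3, 10, 7, 9), (4, 0, 7, 3), (4, 1, 5, 7), (4, 2, 10, 8), (4, 3, 9, 7), (4, 4, 4, 7), (4, 5,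 2, 0), (4, 6, 1, 10), (4, 7, 3, 0), (4, 8, 0, 3), (4, 9, 8, 10), (4, 10, 6, 7), (5, 0, 5, 9), (5, 1, 0, 9), (5, 2, 9, 6), (5, 3, 8, 5), (5, 4, 10, 6), (5, 5, 7, 5), (5, 6, 4, 5), (5, 7, 2, 3), (5, 8, 3, 5), (5, 9, 1, 2), (5, 10, 6, 10)]

/-- centraliser of the element of order three -/
def cen : List Qd := [(0, 1, 10, 10), (1, 0, 0, 1), (1, 1, 10, 0), (2, 4, 7, 9), (2, 9, 2, 4), (4, 2, 9, 2)]

/-- universal quantifier over the special linear group -/
def allQ (f : Qd → Bool) : Bool :=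
  (List.range 11).all fun a => (List.range 11).all fun b => (List.range 11).all fun c =>
    (List.range 11).all fun d =>
      !(Nat.beq ((a * d + 10 * (b * c)) % 11) 1) || f (a, b, c, d)

/-- elements of order three have trace one up to sign -/
def chkTrace : Bool :=
  allQ fun X => !(qsame (qpow X 3) (1, 0, 0, 1)) || qsame X (1, 0, 0, 1) ||
    (match X with | (a, _, _, d) => Nat.beq ((a + d) % 11) 1 || Nat.beq ((a + d) % 11) 10)

/-- every partner generates a conjugate of one of the two subgroups -/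
def chkPartner : Bool :=
  allQ fun Y => !(qsame (qpow Y 5) (1, 0, 0, 1) && qsame (qpow (qmul x0 Y) 2) (1, 0, 0, 1)) ||
    cen.any fun g => qmem (qmul (qmul g x0) (qinv g)) l0 && qmem (qmul (qmul g Y) (qinv g)) l0 ||
      qmem (qmul (qmul g x0) (qinv g)) l1 && qmem (qmul (qmul g Y) (qinv g)) l1

/-- the two subgroups are not conjugate -/
def chkApart : Bool :=
  allQ fun g => !(qmem (qmul (qmul g x0) (qinv g)) l1 && qmem (qmul (qmul g y0) (qinv g)) l1)

/-- a list closed under two generators -/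
def chkList (y : Qd) (l : List Qd) : Bool :=
  qmem (1, 0, 0, 1) l && l.all (fun s => qmem (qmul x0 s) l && qmem (qmul y s) l) &&
    qmem x0 l && qmem y l && qsame (qpow y 5) (1, 0, 0, 1) &&
    qsame (qpow (qmul x0 y) 2) (1, 0, 0, 1) && cen.all (fun g => qmem g cen)

theorem chkTrace_true : chkTrace = true := by decide +kernel

theorem chkPartner_true : chkPartner = true := by decide +kernel

theorem chkApart_true : chkApart = true := by decide +kernel

theorem chkList_zero : chkList y0 l0 = true := by decide +kernel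

theorem chkList_one : chkList y1 l1 = true := by decide +kernel

theorem cen_det : cen.all (fun q => match q with
    | (a, b, c, d) => Nat.blt a 11 && Nat.blt b 11 && Nat.blt c 11 && Nat.blt d 11 &&
        Nat.beq ((a * d + 10 * (b * c)) % 11) 1) = true := by decide +kernel

theorem allQ_spec {f : Qd → Bool} (h : allQ f = true) {a b c d : ℕ} (ha : a < 11) (hb : b < 11)
    (hc : c < 11) (hd : d < 11) (hdet : (a * d + 10 * (b * c)) % 11 = 1) : f (a, b, c, d) = true := by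
  simp only [allQ, List.all_eq_true, List.mem_range, Bool.or_eq_true, Bool.not_eq_true',
    Bool.eq_false_iff] at h
  exact (h a ha b hb c hc d hd).resolve_left fun hh => hh (Nat.beq_eq.symm ▸ hdet)

end CfsgLib.PSLTwoEleven
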