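import Cfsg.Agent.Lib.PSLTwoEleven.Basic
import Cfsg.Agent.S0675

/-! Transfer to an arbitrary field with eleven elements. -/

set_option autoImplicit false

namespace CfsgLib.PSLTwoEleven

open Matrix
open scoped Pointwise

variable {F : Type*} [Field F] [Fintype F] (hF : Fintype.card F = 11)

local notation "GF" => Matrix.ProjectiveSpecialLinearGroup (Fin 2) F

include hF

theorem nonempty_equiv :
    Nonempty (Matrix.ProjectiveSpecialLinearGroup (Fin 2) (ZMod 11) ≃* GF) := by
  haveI : Fact (Nat.Prime 11) := ⟨by norm_num⟩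
  exact PSL2Sub.nonempty_pslEquiv (ZMod.ringEquivOfPrime F (by norm_num) hF)

theorem two_transitive (H : Subgroup GF) (hH : Nonempty (H ≃* alternatingGroup (Fin 5))) :
    H.index = 11 ∧ MulAction.IsMultiplyPretransitive GF (GF ⧸ H) 2 := by
  classical
  haveI hsimp : IsSimpleGroup GF :=
    CfsgLib.Linear.isSimpleGroup_PSL_fin 2 le_rfl (by intro; rw [Nat.card_eq_fintype_card, hF]; norm_num)
  obtain ⟨e⟩ := nonempty_equiv hF
  have hi : H.index = 11 := by
    have h1 : Nat.card GF = 660 := (Nat.card_congr e.toEquiv).symm.trans card_G11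
    have h2 : Nat.card H = 60 := (Nat.card_congr hH.some.toEquiv).trans PSL2Sub.card_alt_five
    have h := H.card_mul_index
    rw [h1, h2] at h
    omega
  refine ⟨hi, ?_⟩
  letI : Fintype (GF ⧸ H) := Fintype.ofFinite _
  have hcard : Fintype.card (GF ⧸ H) = 11 := by
    rw [← Nat.card_eq_fintype_card, ← Subgroup.index_eq_card, hi]
  set φ := MulAction.toPermHom GF (GF ⧸ H) with hφ
  haveI : MulAction.IsPretransitive φ.range (GF ⧸ H) := by
    refine ⟨fun a b => ?_⟩
    obtain ⟨g, hg⟩ := MulAction.exists_smul_eq GF a b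
    exact ⟨⟨φ g, g, rfl⟩, hg⟩
  have hker : φ.ker = ⊥ := by
    refine (φ.normal_ker.eq_bot_or_eq_top).resolve_right fun h => ?_
    have htop : H = ⊤ := by
      rw [eq_top_iff]
      intro g _
      have h1 : φ g ((1 : GF) : GF ⧸ H) = ((1 : GF) : GF ⧸ H) := by
        rw [show φ g = 1 from (h ▸ Subgroup.mem_top g : g ∈ φ.ker)]
        rfl
      change ((g * 1 : GF) : GF ⧸ H) = _ at h1
      rw [mul_one, QuotientGroup.eq, mul_one] at h1
      exact inv_mem_iff.1 h1
    rw [htop, Subgroup.index_top] at hi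
    omega
  have hinj : Function.Injective φ := (MonoidHom.ker_eq_bot_iff φ).1 hker
  rcases Cfsg.Agent.S0675.result (α := GF ⧸ H) (by rw [hcard]; norm_num) φ.range with hs | h2
  · exfalso
    haveI := hs
    haveI : Group.IsSolvable GF :=
      solvable_of_solvable_injective (f := (MonoidHom.ofInjective hinj).toMonoidHom)
        (MonoidHom.ofInjective hinj).injective
    haveI : Group.IsSolvable H := inferInstance
    have hA : Group.IsSolvable (alternatingGroup (Fin 5)) :=
      solvable_of_surjective (f := hH.some.toMonoidHom) hH.some.surjective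
    haveI : IsSimpleGroup (alternatingGroup (Fin 5)) := alternatingGroup.isSimpleGroup_five
    have hc := IsSimpleGroup.comm_iff_isSolvable.2 hA
    have := alternatingGroup.center_eq_bot (α := Fin 5) (by simp)
    have htop : Subgroup.center (alternatingGroup (Fin 5)) = ⊤ :=
      eq_top_iff.2 fun x _ => Subgroup.mem_center_iff.2 fun y => hc y x
    rw [this] at htop
    have h3 := congrArg (fun S : Subgroup (alternatingGroup (Fin 5)) => Nat.card S) htop
    simp only [Subgroup.card_bot, Subgroup.card_top, PSL2Sub.card_alt_five] at h3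
    omega
  · rw [MulAction.is_two_pretransitive_iff] at h2 ⊢
    intro a b c d hab hcd
    obtain ⟨⟨-, g, rfl⟩, hga, hgb⟩ := h2 hab hcd
    exact ⟨g, hga, hgb⟩

theorem count : Nat.card {H : Subgroup GF // Nonempty (H ≃* alternatingGroup (Fin 5))} = 22 ∧
    ∃ H K : Subgroup GF, Nonempty (H ≃* alternatingGroup (Fin 5)) ∧ Nonempty (K ≃* alternatingGroup (Fin 5)) ∧
      (∀ g : GF, MulAut.conj g • H ≠ K) ∧
      ∀ L : Subgroup GF, Nonempty (L ≃* alternatingGroup (Fin 5)) →
        ∃ g : GF, MulAut.conj g • L = H ∨ MulAut.conj g • L = K := by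
  obtain ⟨e⟩ := nonempty_equiv hF
  set E := e.mapSubgroup
  have hiso : ∀ H : Subgroup (Matrix.ProjectiveSpecialLinearGroup (Fin 2) (ZMod 11)), Nonempty (H ≃* alternatingGroup (Fin 5)) ↔ Nonempty (E H ≃* alternatingGroup (Fin 5)) :=
    fun H => ⟨fun ⟨f⟩ => ⟨(e.subgroupMap H).symm.trans f⟩, fun ⟨f⟩ => ⟨(e.subgroupMap H).trans f⟩⟩
  have hconj : ∀ g H, E (MulAut.conj g • H) = MulAut.conj (e g) • E H := by
    intro g H
    ext z
    obtain ⟨w, rfl⟩ := e.surjective z
    show e w ∈ (MulAut.conj g • H).map e.toMonoidHom ↔ e w ∈ MulAut.conj (e g) • H.map e.toMonoidHom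
    rw [Subgroup.mem_pointwise_smul_iff_inv_smul_mem, MulAut.smul_def, MulAut.conj_inv_apply,
      ← map_inv, ← map_mul, ← map_mul]
    simp only [Subgroup.mem_map, MulEquiv.coe_toMonoidHom, e.injective.eq_iff, exists_eq_right]
    rw [Subgroup.mem_pointwise_smul_iff_inv_smul_mem, MulAut.smul_def, MulAut.conj_inv_apply]
  constructor
  · rw [← card_alt_five_subgroups]
    exact (Nat.card_congr (E.toEquiv.subtypeEquiv hiso)).symm
  · refine ⟨E (sub aS), E (sub bS), (hiso _).1 aS_props.2, (hiso _).1 bS_props.2, fun g h => ?_, fun L hL => ?_⟩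
    · obtain ⟨k, rfl⟩ := e.surjective g
      rw [← hconj] at h
      exact not_conj k (E.injective h)
    · obtain ⟨L, rfl⟩ := E.surjective L
      obtain ⟨g, hg⟩ := exists_conj_of_alt_five L ((hiso L).2 hL)
      refine ⟨e g, ?_⟩
      rw [← hconj]
      exact hg.imp (congrArg E) (congrArg E)

end CfsgLib.PSLTwoEleven
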